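import Cfsg.Agent.H271.PU.RowB
import Cfsg.Agent.OddHalf.D4.Spor.MTwentyFour

/-!
# S3046, case B, `p = 2`: the row `M24` and the local facts for `M22`, `M23` (helper17)

`RowB 2 G` for `G ≅ M24`. `z` = the 2-central involution, `E1` = the octad group, `E2` = the other normal elementary abelian
subgroup of order 16 of `C(z)`: an elementary abelian normal subgroup `A ∋ z` of `C(z)` is `⟨z⟩`, `E1` or `E2`.
-/

set_option autoImplicit false

namespace Cfsg.Agent.H17.PU.Mathieu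

open Subgroup Cfsg Cfsg.Agent.KFacts.M24Two Cfsg.Agent.KFacts.M24Pair.Letters
open Cfsg.Agent.SporadicA.GolayBase Cfsg.Agent.SporadicA.GolayPerm Cfsg.Agent.SporadicStructure.M24El
open Cfsg.Agent.KFacts.M24Two.CentZ (z zz z_ne z_eq C mem_C E1 E2 mem_E1 mem_E2 E1_normal E2_normal xx_mem_C
  mem_E1_of_comm E1_trans E2_trans E1_comm ev_mem_cl xx_mem ev_singleton conj_of_weq)
open Cfsg.Agent.OddHalf.D4.Spor.MTwentyFour (E1_sq E2_sq E1_cent_E2 cen_z center_sylow isPGroup_of_sq)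
open Cfsg.Agent.H271.PU
open Cfsg.Agent.H229

theorem C_eq' : C = centralizer ({z} : Set M24) := rfl

theorem z_mem_E1 : z ∈ E1 := xx_mem (r := 3) (by decide)

theorem z_mem_E2 : z ∈ E2 := xx_mem (rs := [3, 6, 8, 9]) (r := 3) (by decide)

section

variable {A : Subgroup M24}

theorem E1_le_of (hz : z ∈ A) (hN : ∀ c ∈ C, ∀ a ∈ A, c * a * c⁻¹ ∈ A) {b : M24} (hb : b ∈ A) (hbE : b ∈ E1)
    (h1 : b ≠ 1) (h2 : b ≠ z) : E1 ≤ A := by
  intro x hx
  by_cases hx1 : x = 1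
  · rw [hx1]; exact A.one_mem
  by_cases hxz : x = z
  · rw [hxz]; exact hz
  obtain ⟨c, hc, hc'⟩ := E1_trans hx hx1 hxz
  obtain ⟨d, hd, hd'⟩ := E1_trans hbE h1 h2
  have h3 : x = c * d⁻¹ * b * (c * d⁻¹)⁻¹ := by rw [← hc', ← hd']; group
  rw [h3]
  exact hN _ (C.mul_mem hc (C.inv_mem hd)) _ hb

theorem E2_le_of (hz : z ∈ A) (hN : ∀ c ∈ C, ∀ a ∈ A, c * a * c⁻¹ ∈ A) {b : M24} (hb : b ∈ A) (hbE : b ∈ E2)
    (h1 : b ≠ 1) (h2 : b ≠ z) : E2 ≤ A := by
  intro x hx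
  by_cases hx1 : x = 1
  · rw [hx1]; exact A.one_mem
  by_cases hxz : x = z
  · rw [hxz]; exact hz
  obtain ⟨c, hc, hc'⟩ := E2_trans hx hx1 hxz
  obtain ⟨d, hd, hd'⟩ := E2_trans hbE h1 h2
  have h3 : x = c * d⁻¹ * b * (c * d⁻¹)⁻¹ := by rw [← hc', ← hd']; group
  rw [h3]
  exact hN _ (C.mul_mem hc (C.inv_mem hd)) _ hb

/-- words for the elements of a normal subgroup `A` of `C ∩ K` with `A ∩ E1 ≤ ⟨z⟩` -/
theorem words_of (hAC : A ≤ C) (hN : ∀ r < 4, ∀ a ∈ A, xx r * a * (xx r)⁻¹ ∈ A)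
    (h : ∀ b ∈ A, b ∈ E1 → b = 1 ∨ b = z) {a : M24} (ha : a ∈ A) :
    ∃ f ∈ QGroup.LF, ∃ e ∈ CentZ.LE1, a = ev (f ++ e) := by
  apply QGroup.mem_words (hAC ha)
  intro r hr
  have hr4 : r < 4 := by revert r; decide
  have hr12 : r < 12 := by omega
  have hrE : xx r ∈ E1 := xx_mem (by revert r; decide)
  have haC := hAC ha
  have h1 : a * xx r * a⁻¹ * (xx r)⁻¹ ∈ E1 := mul_mem (E1_normal haC hrE) (inv_mem hrE)
  have h2 : a * xx r * a⁻¹ * (xx r)⁻¹ ∈ A := by
    have e1 : a * xx r * a⁻¹ * (xx r)⁻¹ = a * (xx r * a⁻¹ * (xx r)⁻¹) := by group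
    rw [e1]
    exact mul_mem ha (hN r hr4 _ (inv_mem ha))
  rcases h _ h2 h1 with h3 | h3
  · left
    rwa [mul_inv_eq_one] at h3
  · right
    have h4 : a * xx r * a⁻¹ = z * xx r := by rw [← h3]; group
    rw [h4]
    exact (mem_C.1 (xx_mem_C hr12)).symm

theorem ev_LF_mem {f : List ℕ} (hf : f ∈ QGroup.LF) : ev f ∈ E2 := ev_mem_cl (QGroup.LF_sub f hf)

/-- the letters `4, 5, 10` (commuting with `X14`) move the elements of `E2 - ⟨z⟩` modulo `⟨z⟩` -/
theorem move_E2 : ∀ w ∈ CentZ.LE2, w = [] ∨ w = [3] ∨ ∃ k ∈ [4, 5, 10], ∃ v ∈ CentZ.LE2,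
    weqb (k :: w) (v ++ [k]) = true ∧ ∃ u ∈ CentZ.LE2, weqb v (u ++ w) = true ∧ u ≠ [] ∧ u ≠ [3] := by
  decide +kernel

theorem LE2_ne {u : List ℕ} (hu : u ∈ CentZ.LE2) (h1 : u ≠ []) (h2 : u ≠ [3]) : ev u ≠ 1 ∧ ev u ≠ z := by
  have key : ∀ u ∈ CentZ.LE2, u = [] ∨ u = [3] ∨ (Octad.wneb u [] && Octad.wneb u [3]) = true := by decide +kernel
  rcases key u hu with h | h | h
  · exact absurd h h1
  · exact absurd h h2
  · rw [Bool.and_eq_true] at h
    have h3 := Octad.ne_of_wneb h.1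
    have h4 := Octad.ne_of_wneb h.2
    rw [ev_nil] at h3
    rw [ev_singleton, ← z_eq] at h4
    exact ⟨h3, h4⟩

/-- **The elementary abelian normal subgroups of `C(z)` containing `z`.** -/
theorem dich (hcomm : ∀ a ∈ A, ∀ b ∈ A, a * b = b * a) (hz : z ∈ A) (hAC : A ≤ C)
    (hN : ∀ c ∈ C, ∀ a ∈ A, c * a * c⁻¹ ∈ A) : A = E1 ∨ A = E2 ∨ ∀ a ∈ A, a = 1 ∨ a = z := by
  by_cases hA1 : ∃ b ∈ A, b ∈ E1 ∧ b ≠ 1 ∧ b ≠ z
  · left
    obtain ⟨b, hb, hbE, h1, h2⟩ := hA1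
    have h3 := E1_le_of hz hN hb hbE h1 h2
    refine le_antisymm (fun a ha => ?_) h3
    apply mem_E1_of_comm
    intro r hr
    exact hcomm a ha _ (h3 (xx_mem hr))
  right
  push Not at hA1
  have hE1 : ∀ b ∈ A, b ∈ E1 → b = 1 ∨ b = z := by
    intro b hb hbE
    by_cases h1 : b = 1
    · exact Or.inl h1
    · exact Or.inr (hA1 b hb hbE h1)
  have hw : ∀ a ∈ A, ∃ f ∈ QGroup.LF, ∃ e ∈ CentZ.LE1, a = ev (f ++ e) := fun a ha =>
    words_of hAC (fun r hr a ha => hN _ (xx_mem_C (by omega)) a ha) hE1 ha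
  by_cases hA2 : ∃ b ∈ A, b ∈ E2 ∧ b ≠ 1 ∧ b ≠ z
  · left
    obtain ⟨b, hb, hbE, h1, h2⟩ := hA2
    have h3 := E2_le_of hz hN hb hbE h1 h2
    refine le_antisymm (fun a ha => ?_) h3
    obtain ⟨f, hf, e, he, rfl⟩ := hw a ha
    have hfE := ev_LF_mem hf
    rw [ev_append] at ha ⊢
    have h4 : ev e ∈ A := by
      have := A.mul_mem (A.inv_mem (h3 hfE)) ha
      rwa [inv_mul_cancel_left] at this
    refine E2.mul_mem hfE ?_
    rcases hE1 _ h4 (mem_E1.2 ⟨e, he, rfl⟩) with h5 | h5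
    · rw [h5]; exact E2.one_mem
    · rw [h5]; exact z_mem_E2
  · right
    push Not at hA2
    intro a ha
    obtain ⟨f, hf, e, he, h0⟩ := hw a ha
    rw [ev_append] at h0
    have hfE := ev_LF_mem hf
    have heE : ev e ∈ E1 := mem_E1.2 ⟨e, he, rfl⟩
    by_cases he1 : ev e = 1
    · have h1 : a ∈ E2 := by rw [h0, he1, mul_one]; exact hfE
      by_cases h2 : a = 1
      · exact Or.inl h2
      · exact Or.inr (hA2 a ha h1 h2)
    by_cases hez : ev e = z
    · have h1 : a ∈ E2 := by rw [h0, hez]; exact E2.mul_mem hfE z_mem_E2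
      by_cases h2 : a = 1
      · exact Or.inl h2
      · exact Or.inr (hA2 a ha h1 h2)
    exfalso
    obtain ⟨c, hc, hc'⟩ := E1_trans heE he1 hez
    -- `a' = f' X14`
    have ha' : c⁻¹ * a * c ∈ A := by
      have := hN _ (C.inv_mem hc) a ha
      rwa [inv_inv] at this
    have hf' : c⁻¹ * ev f * c ∈ E2 := by
      have := E2_normal (C.inv_mem hc) hfE
      rwa [inv_inv] at this
    have h1 : c⁻¹ * a * c = c⁻¹ * ev f * c * xx 2 := by
      rw [h0, ← hc']; group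
    obtain ⟨w, hw', hw2⟩ := mem_E2.1 hf'
    rw [hw2] at h1
    have h2E : xx 2 ∈ E1 := xx_mem (by decide)
    rcases move_E2 w hw' with rfl | rfl | ⟨k, hk, v, hv, h3, u, hu, h4, h5, h6⟩
    · rw [ev_nil, one_mul] at h1
      rw [h1] at ha'
      rcases hE1 _ ha' h2E with h2 | h2
      · exact Octad.x14_ne h2
      · exact Octad.z_ne_x14 h2.symm
    · rw [ev_singleton, ← z_eq] at h1
      have h7 : xx 2 ∈ A := by
        have := A.mul_mem (A.inv_mem hz) ha'
        rwa [h1, inv_mul_cancel_left] at this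
      rcases hE1 _ h7 h2E with h2 | h2
      · exact Octad.x14_ne h2
      · exact Octad.z_ne_x14 h2.symm
    · have hk12 : k < 12 := by
        clear h3
        revert k; decide
      have hk2 : xx k * xx 2 * (xx k)⁻¹ = xx 2 := by
        have h8 : ∀ k ∈ [4, 5, 10], weqb ([k] ++ [2]) ([2] ++ [k]) = true := by decide +kernel
        have := conj_of_weq (h8 k hk)
        rwa [ev_singleton, ev_singleton] at this
      have h7 : xx k * ev w * (xx k)⁻¹ = ev u * ev w := by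
        have := conj_of_weq (c := [k]) (r := w) (w := v) h3
        rw [ev_singleton] at this
        rw [this, weq h4, ev_append]
      have h8 : ev u ∈ A := by
        have h9 := A.mul_mem (hN _ (xx_mem_C hk12) _ ha') (A.inv_mem ha')
        have h10 : xx k * (c⁻¹ * a * c) * (xx k)⁻¹ * (c⁻¹ * a * c)⁻¹ = ev u := by
          rw [h1]
          calc xx k * (ev w * xx 2) * (xx k)⁻¹ * (ev w * xx 2)⁻¹
              = (xx k * ev w * (xx k)⁻¹) * (xx k * xx 2 * (xx k)⁻¹) * (ev w * xx 2)⁻¹ := by group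
            _ = ev u * ev w * xx 2 * (ev w * xx 2)⁻¹ := by rw [h7, hk2]
            _ = ev u := by group
        rwa [h10] at h9
      obtain ⟨h9, h10⟩ := LE2_ne hu h5 h6
      exact h10 (hA2 _ h8 (mem_E2.2 ⟨u, hu, rfl⟩) h9)

end

/-! ### The row `M24` -/

/-- no element normalising `E2` maps `z` to `X25` -/
theorem no_k (k : M24) (hkE : ∀ f ∈ E2, k * f * k⁻¹ ∈ E2) : k * z * k⁻¹ ≠ xx 6 := by
  intro hkz
  have hkE' : ∀ f ∈ E2, k⁻¹ * f * k ∈ E2 := by
    intro f hf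
    have h1 : E2.map (MulAut.conj k).toMonoidHom = E2 := by
      apply Subgroup.eq_of_le_of_card_ge
      · rintro _ ⟨x, hx, rfl⟩
        exact hkE x hx
      · exact (Nat.card_congr (E2.equivMapOfInjective _ (MulAut.conj k).injective).toEquiv).le
    rw [← h1] at hf
    obtain ⟨x, hx, rfl⟩ := hf
    have e1 : k⁻¹ * (MulAut.conj k).toMonoidHom x * k = x := by
      show k⁻¹ * (k * x * k⁻¹) * k = x
      group
    rw [e1]
    exact hx
  set d := ev [12, 0, 13] with hd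
  have hd6 : d * xx 6 = xx 6 * d := by
    have h1 := weq Out.c_comm
    have h2 : ev [12, 0, 13, 6] = d * xx 6 := by
      rw [show [12, 0, 13, 6] = [12, 0, 13] ++ [6] from rfl, ev_append, ev_singleton]
    have h3 : ev [6, 12, 0, 13] = xx 6 * d := ev_cons _ _
    rw [← h2, ← h3, h1]
  have hdC : k⁻¹ * d * k ∈ C := by
    rw [mem_C]
    have e1 : z = k⁻¹ * xx 6 * k := by rw [← hkz]; group
    calc k⁻¹ * d * k * z = k⁻¹ * d * k * (k⁻¹ * xx 6 * k) := by rw [← e1]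
      _ = k⁻¹ * (d * xx 6) * k := by group
      _ = k⁻¹ * xx 6 * k * (k⁻¹ * d * k) := by rw [hd6]; group
      _ = z * (k⁻¹ * d * k) := by rw [← e1]
  have h8 : d * xx 8 * d⁻¹ ∈ E2 := by
    have h1 := hkE _ (E2_normal hdC (hkE' _ (xx_mem (rs := [3, 6, 8, 9]) (r := 8) (by decide))))
    have e1 : k * (k⁻¹ * d * k * (k⁻¹ * xx 8 * k) * (k⁻¹ * d * k)⁻¹) * k⁻¹ = d * xx 8 * d⁻¹ := by group
    rwa [e1] at h1
  obtain ⟨w, hw, h9⟩ := mem_E2.1 h8
  apply Octad.ne_of_wneb (List.all_eq_true.1 Out.c_move w hw)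
  rw [ev_append, ev_append, ev_singleton, ← h9, ← hd]; group

/-- `N(E2) ≤ C(z)` -/
theorem fix_z_of_E2 (g : M24) (hg : ∀ f ∈ E2, g * f * g⁻¹ ∈ E2) : g ∈ C := by
  rw [mem_C]
  by_contra hne
  have h1 : g * z * g⁻¹ ∈ E2 := hg _ z_mem_E2
  have h2 : g * z * g⁻¹ ≠ 1 := by
    intro h
    apply z_ne
    calc z = g⁻¹ * (g * z * g⁻¹) * g := by group
      _ = 1 := by rw [h]; group
  have h3 : g * z * g⁻¹ ≠ z := by
    intro h
    apply hne
    calc g * z = g * z * g⁻¹ * g := by group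
      _ = z * g := by rw [h]
  obtain ⟨c, hc, hc'⟩ := E2_trans h1 h2 h3
  apply no_k (c⁻¹ * g)
  · intro f hf
    have h4 := E2_normal (C.inv_mem hc) (hg f hf)
    have e1 : c⁻¹ * g * f * (c⁻¹ * g)⁻¹ = c⁻¹ * (g * f * g⁻¹) * c⁻¹⁻¹ := by group
    rw [e1]; exact h4
  · have e1 : c⁻¹ * g * z * (c⁻¹ * g)⁻¹ = c⁻¹ * (g * z * g⁻¹) * c := by group
    rw [e1, ← hc']; group

/-- `N(E1)` is transitive on `E1 - 1` -/
theorem trans_N {u : M24} (hu : u ∈ E1) (hu1 : u ≠ 1) : ∃ k ∈ Octad.N, k * z * k⁻¹ = u := by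
  by_cases h : u = xx 2
  · obtain ⟨k, hk, hk', -⟩ := Octad.exists_pair hu z_mem_E1 hu1 z_ne (by rw [h]; exact Octad.z_ne_x14.symm)
    exact ⟨k, hk, hk'⟩
  · obtain ⟨k, hk, hk', -⟩ := Octad.exists_pair hu Octad.x14_mem hu1 Octad.x14_ne h
    exact ⟨k, hk, hk'⟩

theorem conj_mem_of_le_normalizer {G : Type*} [Group G] {A B : Subgroup G} (h : B ≤ normalizer (A : Set G)) {c : G}
    (hc : c ∈ B) : ∀ a ∈ A, c * a * c⁻¹ ∈ A := fun a ha => (mem_normalizer_iff.1 (h hc) a).1 ha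

theorem card_le_two {G : Type*} [Group G] {A : Subgroup G} {z : G} (h : ∀ a ∈ A, a = 1 ∨ a = z) : Nat.card A ≤ 2 := by
  by_cases hz : z ∈ A
  · have h3 : Function.Surjective (fun i : Fin 2 => if i = 0 then (1 : A) else ⟨z, hz⟩) := by
      intro x
      rcases h x x.2 with h4 | h4
      · refine ⟨0, ?_⟩
        show (if (0 : Fin 2) = 0 then (1 : A) else ⟨z, hz⟩) = x
        rw [if_pos rfl]; exact Subtype.ext h4.symm
      · refine ⟨1, ?_⟩
        show (if (1 : Fin 2) = 0 then (1 : A) else ⟨z, hz⟩) = x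
        rw [if_neg (by decide)]; exact Subtype.ext h4.symm
    have h4 := Nat.card_le_card_of_surjective _ h3
    rwa [Nat.card_eq_fintype_card (α := Fin 2), Fintype.card_fin] at h4
  · have h1 : A = ⊥ := by
      rw [eq_bot_iff_forall]
      intro x hx
      rcases h x hx with h2 | h2
      · exact h2
      · exact absurd (h2 ▸ hx) hz
    rw [h1, Subgroup.card_bot]
    norm_num

theorem rowAt_z : RowAt 2 z := by
  intro A hA hz hAc hN hcard
  have hN' : ∀ c ∈ C, ∀ a ∈ A, c * a * c⁻¹ ∈ A := fun c hc => conj_mem_of_le_normalizer hN hc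
  have hcomm : ∀ a ∈ A, ∀ b ∈ A, a * b = b * a := fun a ha b hb => ea_comm hA ha hb
  rcases dich hcomm hz hAc hN' with rfl | rfl | h
  · left
    intro B hB hB1 hBn
    refine le_antisymm hB fun x hx => ?_
    by_cases hx1 : x = 1
    · rw [hx1]; exact B.one_mem
    obtain ⟨b, hb, hb1⟩ : ∃ b ∈ B, b ≠ 1 := by
      by_contra hcon
      push Not at hcon
      exact hB1 (eq_bot_iff_forall _ |>.2 hcon)
    obtain ⟨k, hk, hk'⟩ := trans_N hx hx1
    obtain ⟨l, hl, hl'⟩ := trans_N (hB hb) hb1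
    have h3 : x = k * l⁻¹ * b * (k * l⁻¹)⁻¹ := by rw [← hk', ← hl']; group
    rw [h3]
    exact conj_mem_of_le_normalizer hBn (mul_mem hk (inv_mem hl)) _ hb
  · right
    refine ⟨E1, ?_, isPGroup_of_sq fun x hx => E1_sq hx, ?_, ?_⟩
    · intro h
      have h1 := z_mem_E1
      rw [h, mem_bot] at h1
      exact z_ne h1
    · intro h
      have h14 : xx 14 ∈ normalizer (E1 : Set M24) := Octad.xx_mem_N (Or.inr (Or.inl rfl))
      have h1 := conj_mem_of_le_normalizer h h14 _ z_mem_E2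
      have hgz : xx 14 * z * (xx 14)⁻¹ = xx 2 := by
        have h1 := conj_of_weq (c := [14]) (r := [3]) (w := [2]) (by decide +kernel)
        simpa only [ev_singleton, z_eq] using h1
      rw [hgz] at h1
      rcases E1_cent_E2 Octad.x14_mem (fun y hy => hcomm _ h1 _ hy) with h2 | h2
      · exact Octad.x14_ne h2
      · exact Octad.z_ne_x14 h2.symm
    · intro α hα
      obtain ⟨k, rfl⟩ := Out.exists_conj α
      have hk : k ∈ C := by
        apply fix_z_of_E2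
        intro f hf
        have h1 : (MulAut.conj k).toMonoidHom f ∈ E2 := by
          rw [← hα]; exact mem_map_of_mem _ hf
        exact h1
      apply Subgroup.eq_of_le_of_card_ge
      · rintro _ ⟨x, hx, rfl⟩
        exact E1_normal hk hx
      · exact (Nat.card_congr (E1.equivMapOfInjective _ (MulAut.conj k).injective).toEquiv).le
  · exfalso
    have h1 := card_le_two h
    have h2 := hcard.trans h1
    norm_num at h2

/-- **The row `M24`.** -/
theorem rowB_M24 : RowB 2 M24 := by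
  have := Fact.mk Nat.prime_two
  obtain ⟨S, hS⟩ := cen_z
  refine rowB_of_center (T := S) (z₀ := z) (fun y _ hy _ => ?_) (orderOf_eq_prime (by rw [pow_two]; exact zz) z_ne) rowAt_z
  rcases center_sylow hS hy with h | h
  · rw [h]; exact one_mem _
  · rw [h]; exact mem_zpowers z

theorem rowB_m24 {K : Type*} [Group K] [Finite K] (h : Spor.IsoM24 K) : RowB 2 K := by
  have := Fact.mk Nat.prime_two
  obtain ⟨e⟩ := h
  exact rowB_M24.congr e.symm

end Cfsg.Agent.H17.PU.Mathieu
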