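import Cfsg.Agent.H17.PU.Mathieu
import Cfsg.Agent.OddHalf.D4.Spor.M2223

/-!
# S3046, case B, `p = 2`: the rows `M22`, `M23` (helper17)

`K ≤ M24` between the stabilizer of the points `6`, `15` and the stabilizer of the point `6` of the octad of `z`.
-/

set_option autoImplicit false

namespace Cfsg.Agent.H17.PU.MathieuSmall

open Subgroup Cfsg Cfsg.Agent.KFacts.M24Two Cfsg.Agent.KFacts.M24Pair.Letters
open Cfsg.Agent.SporadicA.GolayBase Cfsg.Agent.SporadicA.GolayPerm Cfsg.Agent.SporadicStructure.M24El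
open Cfsg.Agent.KFacts.M24Two.CentZ (z zz z_ne z_eq C mem_C E1 mem_E1 E1_normal xx_mem_C
  mem_E1_of_comm E1_comm ev_mem xx_mem ev_singleton conj_of_weq ev_smul papp_word_lt)
open Cfsg.Agent.OddHalf.D4.Spor.MTwentyFour (E1_sq isPGroup_of_sq)
open Cfsg.Agent.H17.PU.Mathieu
open Cfsg.Agent.H271.PU
open Cfsg.Agent.H229

/-! ### Data -/

/-- `(w, c)`: `c X13 c⁻¹ = w` -/
def T6 : List (List ℕ × List ℕ) := [([1], []), ([2], [11, 7]), ([1, 2], [7, 6]), ([1, 3], [8, 6, 5]),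
  ([2, 3], [11, 4, 8, 7, 4]), ([1, 2, 3], [8, 7, 5])]

/-- `(w, c)`: `c X12 c⁻¹ = w` -/
def T8 : List (List ℕ × List ℕ) := [([0], []), ([0, 1], [11, 9, 4]), ([0, 2], [8, 7, 5]), ([0, 3], [7, 6]),
  ([0, 1, 2], [7, 9, 4]), ([0, 1, 3], [9, 6, 4]), ([0, 2, 3], [8, 6, 5]), ([0, 1, 2, 3], [5, 9, 8, 4])]

/-- `(w, c)`: `c X15 c⁻¹ = w` -/
def TN : List (List ℕ × List ℕ) := [([0], [6, 14, 11, 10, 11, 15, 10]), ([1], [7, 11, 14, 4, 10]),
  ([2], [14, 4, 10]), ([3], []), ([0, 1], [15, 5, 10, 11, 14, 10]), ([0, 2], [6, 14, 11, 10, 11, 14, 4]),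
  ([0, 3], [8, 14, 11, 10, 11, 15, 5]), ([1, 2], [11, 14, 4, 10, 6]), ([1, 3], [7, 11, 15, 10, 4]),
  ([2, 3], [15, 10, 4]), ([0, 1, 2], [10, 11, 14, 5, 11, 10, 4]), ([0, 1, 3], [15, 10, 11, 14, 10, 6]),
  ([0, 2, 3], [14, 11, 10, 11, 14, 9]), ([1, 2, 3], [11, 15, 10, 9]), ([0, 1, 2, 3], [7, 15, 10, 11, 14, 10])]

/-- the word `c` fixes the points `6` and `15` -/
def fixb (c : List ℕ) : Bool := Nat.beq (papp (prodW gx c) 6) 6 && Nat.beq (papp (prodW gx c) 15) 15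

theorem T6_ok : (T6.all fun e => weqb (e.2 ++ [1]) (e.1 ++ e.2) && (e.2.all fun k => Nat.blt k 12) && fixb e.2) =
    true := by decide +kernel

theorem T8_ok : (T8.all fun e => weqb (e.2 ++ [0]) (e.1 ++ e.2) && (e.2.all fun k => Nat.blt k 12) && fixb e.2) =
    true := by decide +kernel

theorem TN_ok : (TN.all fun e => weqb (e.2 ++ [3]) (e.1 ++ e.2) && e.2.all Octad.nl && fixb e.2) = true := by
  decide +kernel

theorem T_all : ∀ w ∈ CentZ.LE1, w = [] ∨ w = [3] ∨ (∃ e ∈ T6, e.1 = w) ∨ ∃ e ∈ T8, e.1 = w := by decide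

theorem TN_all : ∀ w ∈ CentZ.LE1, w = [] ∨ ∃ e ∈ TN, e.1 = w := by decide

theorem E_fix : (CentZ.LE1.all fun w => fixb w) = true := by decide +kernel

theorem move6 : ((QGroup.LF ++ Octad.LV).all fun w => w.isEmpty || !(Nat.beq (papp (prodW gx w) 6) 6)) = true := by
  decide +kernel

/-! ### The subgroups `K` -/

/-- `K` is between the stabilizer of two points and of one point -/
structure Btw (K : Subgroup M24) : Prop where
  big : ∀ g : M24, g • pt 6 = pt 6 → g • pt 15 = pt 15 → g ∈ K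
  fix : ∀ g ∈ K, g • pt 6 = pt 6

variable {K : Subgroup M24}

theorem Btw.word (hK : Btw K) {w : List ℕ} (h : fixb w = true) : ev w ∈ K := by
  unfold fixb at h
  rw [Bool.and_eq_true] at h
  apply hK.big
  · rw [ev_smul w (by norm_num), Nat.eq_of_beq_eq_true h.1]
  · rw [ev_smul w (by norm_num), Nat.eq_of_beq_eq_true h.2]

theorem Btw.E1_le (hK : Btw K) : E1 ≤ K := by
  intro x hx
  obtain ⟨w, hw, rfl⟩ := mem_E1.1 hx
  exact hK.word (List.all_eq_true.1 E_fix w hw)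

/-- an element `ev (f ++ e)` of `K` with `e` in `E1` and `f` in one of the two lists is in `E1` -/
theorem Btw.mem_E1_of_word (hK : Btw K) {f e : List ℕ} (hf : f ∈ QGroup.LF ++ Octad.LV) (he : e ∈ CentZ.LE1)
    (h : ev (f ++ e) ∈ K) : ev (f ++ e) ∈ E1 := by
  have heE : ev e ∈ E1 := mem_E1.2 ⟨e, he, rfl⟩
  rw [ev_append] at h ⊢
  have h1 : ev f ∈ K := by
    have := K.mul_mem h (K.inv_mem (hK.E1_le heE))
    rwa [mul_inv_cancel_right] at this
  have h2 := hK.fix _ h1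
  rw [ev_smul f (by norm_num)] at h2
  have h3 := congrArg idx h2
  rw [idx_pt (papp_word_lt _ (by norm_num)), idx_pt (by norm_num)] at h3
  have h4 := List.all_eq_true.1 move6 f hf
  rw [Bool.or_eq_true, List.isEmpty_iff, h3] at h4
  rcases h4 with rfl | h4
  · rw [ev_nil, one_mul]; exact heE
  · exact absurd h4 (by decide)

theorem Btw.mem_E1_of_cent (hK : Btw K) {q : M24} (hq : q ∈ K) (h : ∀ r ∈ [1, 2, 3], q * xx r = xx r * q) :
    q ∈ E1 := by
  obtain ⟨v, hv, e, he, rfl⟩ := Octad.cent_A h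
  exact hK.mem_E1_of_word (List.mem_append_right _ hv) he hq

section

variable {A : Subgroup M24}

theorem V8_of (hK : Btw K) (hz : z ∈ A) (hN : ∀ c ∈ C, c ∈ K → ∀ a ∈ A, c * a * c⁻¹ ∈ A) {b : M24} (hb : b ∈ A)
    (hbE : b ∈ E1) (h1 : b ≠ 1) (h2 : b ≠ z) : ∀ r ∈ [1, 2, 3], xx r ∈ A := by
  have h3 : xx 3 ∈ A := hz
  -- conjugation by a word and its inverse
  have key : ∀ {w c : List ℕ} {r : ℕ}, (weqb (c ++ [r]) (w ++ c) && (c.all fun k => Nat.blt k 12) && fixb c) = true →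
      (xx r ∈ A ↔ ev w ∈ A) := by
    intro w c r h
    rw [Bool.and_eq_true, Bool.and_eq_true] at h
    obtain ⟨⟨h4, h5⟩, h6⟩ := h
    have hcC : ev c ∈ C := ev_mem fun k hk => xx_mem_C (Nat.blt_eq.mp (List.all_eq_true.1 h5 k hk))
    have hcK := hK.word h6
    have h7 := conj_of_weq h4
    rw [ev_singleton] at h7
    constructor
    · intro h8
      rw [← h7]
      exact hN _ hcC hcK _ h8
    · intro h8
      have h9 := hN _ (C.inv_mem hcC) (K.inv_mem hcK) _ h8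
      rw [← h7] at h9
      have e1 : (ev c)⁻¹ * (ev c * xx r * (ev c)⁻¹) * (ev c)⁻¹⁻¹ = xx r := by group
      rwa [e1] at h9
  have hmem6 : xx 1 ∈ A → ∀ e ∈ T6, ev e.1 ∈ A := fun h e he => (key (List.all_eq_true.1 T6_ok e he)).1 h
  have hmem8 : xx 0 ∈ A → ∀ e ∈ T8, ev e.1 ∈ A := fun h e he => (key (List.all_eq_true.1 T8_ok e he)).1 h
  have h12 : xx 1 ∈ A ∧ xx 2 ∈ A := by
    obtain ⟨w, hw, rfl⟩ := mem_E1.1 hbE
    rcases T_all w hw with rfl | rfl | ⟨e, he, rfl⟩ | ⟨e, he, rfl⟩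
    · exact absurd ev_nil h1
    · exact absurd (ev_singleton 3) h2
    · have h4 := (key (List.all_eq_true.1 T6_ok e he)).2 hb
      have h5 := hmem6 h4 ([2], [11, 7]) (by decide)
      rw [ev_singleton] at h5
      exact ⟨h4, h5⟩
    · have h4 := (key (List.all_eq_true.1 T8_ok e he)).2 hb
      have h5 := hmem8 h4 ([0, 1], [11, 9, 4]) (by decide)
      have h6 := hmem8 h4 ([0, 2], [8, 7, 5]) (by decide)
      rw [ev_cons, ev_singleton] at h5 h6
      have h7 := A.mul_mem (A.inv_mem h4) h5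
      have h8 := A.mul_mem (A.inv_mem h4) h6
      rw [inv_mul_cancel_left] at h7 h8
      exact ⟨h7, h8⟩
  intro r hr
  have hr' : r = 1 ∨ r = 2 ∨ r = 3 := by revert r; decide
  rcases hr' with rfl | rfl | rfl
  · exact h12.1
  · exact h12.2
  · exact h3

/-- **The elementary abelian normal subgroups of `C_K(z)` containing `z`.** -/
theorem core (hK : Btw K) (hAK : A ≤ K) (hcomm : ∀ a ∈ A, ∀ b ∈ A, a * b = b * a) (hz : z ∈ A) (hAC : A ≤ C)
    (hN : ∀ c ∈ C, c ∈ K → ∀ a ∈ A, c * a * c⁻¹ ∈ A) :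
    ((∀ r ∈ [1, 2, 3], xx r ∈ A) ∧ A ≤ E1) ∨ ∀ a ∈ A, a = 1 ∨ a = z := by
  by_cases hA1 : ∃ b ∈ A, b ∈ E1 ∧ b ≠ 1 ∧ b ≠ z
  · left
    obtain ⟨b, hb, hbE, h1, h2⟩ := hA1
    have h3 := V8_of hK hz hN hb hbE h1 h2
    exact ⟨h3, fun a ha => hK.mem_E1_of_cent (hAK ha) fun r hr => hcomm a ha _ (h3 r hr)⟩
  · right
    push Not at hA1
    have hE1 : ∀ b ∈ A, b ∈ E1 → b = 1 ∨ b = z := by
      intro b hb hbE
      by_cases h1 : b = 1
      · exact Or.inl h1
      · exact Or.inr (hA1 b hb hbE h1)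
    intro a ha
    obtain ⟨f, hf, e, he, rfl⟩ := words_of hAC (fun r hr a ha => hN _ (xx_mem_C (by omega))
      (hK.E1_le (xx_mem (by interval_cases r <;> decide))) a ha) hE1 ha
    exact hE1 _ ha (hK.mem_E1_of_word (List.mem_append_left _ hf) he (hAK ha))

end

/-- `N_K(E1)` is transitive on `E1 - 1` -/
theorem Btw.trans (hK : Btw K) {u : M24} (hu : u ∈ E1) (hu1 : u ≠ 1) : ∃ k ∈ Octad.N, k ∈ K ∧ k * z * k⁻¹ = u := by
  obtain ⟨w, hw, rfl⟩ := mem_E1.1 hu
  rcases TN_all w hw with rfl | ⟨e, he, rfl⟩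
  · exact absurd ev_nil hu1
  · have h := List.all_eq_true.1 TN_ok e he
    rw [Bool.and_eq_true, Bool.and_eq_true] at h
    refine ⟨ev e.2, Octad.ev_mem_N h.1.2, hK.word h.2, ?_⟩
    have := conj_of_weq (c := e.2) (r := [3]) h.1.1
    rwa [ev_singleton] at this

theorem Btw.z_mem (hK : Btw K) : z ∈ K := hK.E1_le z_mem_E1

theorem rowAt (hK : Btw K) : RowAt 2 (⟨z, hK.z_mem⟩ : K) := by
  intro A hA hz hAc hN hcard
  set A' : Subgroup M24 := A.map K.subtype with hA'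
  have hmem : ∀ x : K, (x : M24) ∈ A' ↔ x ∈ A := by
    intro x
    constructor
    · rintro ⟨y, hy, hyx⟩
      rwa [← (Subtype.ext hyx : y = x)]
    · intro hx
      exact ⟨x, hx, rfl⟩
  have hAK : A' ≤ K := map_subtype_le _
  have hcomm : ∀ a ∈ A', ∀ b ∈ A', a * b = b * a := by
    rintro _ ⟨a, ha, rfl⟩ _ ⟨b, hb, rfl⟩
    exact congrArg Subtype.val (ea_comm hA ha hb)
  have hAC : A' ≤ C := by
    rintro _ ⟨a, ha, rfl⟩
    rw [mem_C]
    exact congrArg Subtype.val (mem_centralizer_singleton_iff.1 (hAc ha))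
  have hN' : ∀ c ∈ C, c ∈ K → ∀ a ∈ A', c * a * c⁻¹ ∈ A' := by
    rintro c hc hcK _ ⟨a, ha, rfl⟩
    have h1 : (⟨c, hcK⟩ : K) ∈ centralizer ({(⟨z, hK.z_mem⟩ : K)} : Set K) := by
      rw [mem_centralizer_singleton_iff]
      exact Subtype.ext (mem_C.1 hc)
    exact ⟨_, conj_mem_of_le_normalizer hN h1 a ha, rfl⟩
  rcases core hK hAK hcomm ((hmem ⟨z, hK.z_mem⟩).2 hz) hAC hN' with ⟨h8, hAE⟩ | h
  swap
  · exfalso
    have h1 : Nat.card A ≤ 2 := by
      refine card_le_two (z := (⟨z, hK.z_mem⟩ : K)) fun a ha => ?_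
      rcases h _ ((hmem a).2 ha) with h1 | h1
      · exact Or.inl (Subtype.ext h1)
      · exact Or.inr (Subtype.ext h1)
    have h2 := hcard.trans h1
    norm_num at h2
  have hEc : ∀ x : K, x ∈ E1.subgroupOf K ↔ x ∈ centralizer (A : Set K) := by
    intro x
    rw [mem_subgroupOf, mem_centralizer_iff]
    constructor
    · intro hx a ha
      exact Subtype.ext (E1_comm (hAE ((hmem a).2 ha)) hx)
    · intro h
      apply hK.mem_E1_of_cent x.2
      intro r hr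
      have h1 := h8 r hr
      have h2 := h ⟨xx r, hAK h1⟩ ((hmem _).1 h1)
      exact (congrArg Subtype.val h2).symm
  by_cases hNE : normalizer ((E1.subgroupOf K : Subgroup K) : Set K) ≤ normalizer (A : Set K)
  · left
    intro B hB hB1 hBn
    refine le_antisymm hB fun x hx => ?_
    by_cases hx1 : x = 1
    · rw [hx1]; exact B.one_mem
    obtain ⟨b, hb, hb1⟩ : ∃ b ∈ B, b ≠ 1 := by
      by_contra hcon
      push Not at hcon
      exact hB1 (eq_bot_iff_forall _ |>.2 hcon)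
    obtain ⟨k, hk, hkK, hk'⟩ := hK.trans (hAE ((hmem x).2 hx)) fun h => hx1 (Subtype.ext h)
    obtain ⟨l, hl, hlK, hl'⟩ := hK.trans (hAE ((hmem b).2 (hB hb))) fun h => hb1 (Subtype.ext h)
    have h3 : x = (⟨k, hkK⟩ * ⟨l, hlK⟩⁻¹ : K) * b * (⟨k, hkK⟩ * ⟨l, hlK⟩⁻¹ : K)⁻¹ := by
      apply Subtype.ext
      show (x : M24) = k * l⁻¹ * (b : M24) * (k * l⁻¹)⁻¹
      rw [← hk', ← hl']; group
    rw [h3]
    refine conj_mem_of_le_normalizer (hNE.trans hBn) ?_ _ hb
    rw [mem_normalizer_iff]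
    intro y
    rw [mem_subgroupOf, mem_subgroupOf]
    exact mem_normalizer_iff.1 (mul_mem hk (inv_mem hl)) y
  · right
    refine ⟨E1.subgroupOf K, ?_, ?_, hNE, ?_⟩
    · intro h
      have h1 : (⟨z, hK.z_mem⟩ : K) ∈ E1.subgroupOf K := mem_subgroupOf.2 z_mem_E1
      rw [h, mem_bot] at h1
      exact z_ne (congrArg Subtype.val h1)
    · exact (isPGroup_of_sq fun x hx => E1_sq hx).of_equiv (subgroupOfEquivOfLe hK.E1_le).symm
    · intro α hα
      apply Subgroup.eq_of_le_of_card_ge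
      · rintro _ ⟨x, hx, rfl⟩
        rw [hEc, mem_centralizer_iff]
        intro a ha
        rw [SetLike.mem_coe, ← hα] at ha
        obtain ⟨b, hb, rfl⟩ := ha
        have h1 := mem_centralizer_iff.1 ((hEc x).1 hx) b hb
        show α b * α x = α x * α b
        rw [← map_mul, h1, map_mul]
      · exact (Nat.card_congr ((E1.subgroupOf K).equivMapOfInjective _ α.injective).toEquiv).le

/-! ### The transport to `M23` and `M22` -/

/-- the element mapping the points `6`, `15` to the points `23`, `0` -/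
noncomputable def g0 : M24 := ev [11, 14, 13, 4]

theorem g0_six : g0 • pt 6 = none := by
  rw [g0, ev_smul _ (by norm_num), show papp (prodW gx [11, 14, 13, 4]) 6 = 23 by decide +kernel]
  rfl

theorem g0_fifteen : g0 • pt 15 = some 0 := by
  rw [g0, ev_smul _ (by norm_num), show papp (prodW gx [11, 14, 13, 4]) 15 = 0 by decide +kernel]
  rfl

/-- the isomorphism given by the conjugation by `g` -/
noncomputable def equivOf (g : M24) {K : Subgroup M24} {L : Subgroup (Equiv.Perm GolayPt)} (hL : L ≤ M24)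
    (h : ∀ x : M24, x ∈ K ↔ ((g * x * g⁻¹ : M24) : Equiv.Perm GolayPt) ∈ L) : K ≃* L :=
  have h1 : K.map (MulAut.conj g).toMonoidHom = L.subgroupOf M24 := by
    ext x
    rw [mem_subgroupOf]
    constructor
    · rintro ⟨y, hy, rfl⟩
      exact (h y).1 hy
    · intro hx
      refine ⟨g⁻¹ * x * g, ?_, ?_⟩
      · rw [SetLike.mem_coe, h]
        have e1 : g * (g⁻¹ * x * g) * g⁻¹ = x := by group
        rwa [e1]
      · show g * (g⁻¹ * x * g) * g⁻¹ = x
        group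
  ((K.equivMapOfInjective _ (MulAut.conj g).injective).trans (MulEquiv.subgroupCongr h1)).trans
    (subgroupOfEquivOfLe hL)

theorem row_of {K : Subgroup M24} (hK : Btw K) {L : Subgroup (Equiv.Perm GolayPt)} (e : K ≃* L)
    (h1 : ∀ x y : L, x * x = 1 → x ≠ 1 → y * y = 1 → y ≠ 1 → ∃ g : L, g * x * g⁻¹ = y) : RowB 2 L := by
  rintro y ⟨hy, -⟩
  have h2 := (rowAt hK).map e
  obtain ⟨g, hg⟩ := h1 (e ⟨z, hK.z_mem⟩) y (by
    rw [← map_mul, show (⟨z, hK.z_mem⟩ : K) * ⟨z, hK.z_mem⟩ = 1 from Subtype.ext zz, map_one]) (by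
    intro h
    rw [EmbeddingLike.map_eq_one_iff] at h
    exact z_ne (congrArg Subtype.val h)) (by rw [← pow_two, ← hy, pow_orderOf_eq_one]) (by
    rintro rfl
    rw [orderOf_one] at hy
    norm_num at hy)
  have h3 := h2.map (MulAut.conj g)
  rw [MulAut.conj_apply, hg] at h3
  exact h3

theorem conj_trans {L : Type*} [Group L] {t : L} (h : ∀ y : L, y * y = 1 → y ≠ 1 → ∃ g : L, g * t * g⁻¹ = y) (x y : L)
    (hx : x * x = 1) (hx1 : x ≠ 1) (hy : y * y = 1) (hy1 : y ≠ 1) : ∃ g : L, g * x * g⁻¹ = y := by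
  obtain ⟨a, rfl⟩ := h x hx hx1
  obtain ⟨b, rfl⟩ := h y hy hy1
  exact ⟨b * a⁻¹, by group⟩

open Cfsg.Agent.OddHalf.D4.Spor.M2223 Cfsg.Agent.OddHalf.D4.Spor.MathieuSyl
open Cfsg.Agent.Schreier.MTwentyThree (M23_le_M24)
open Cfsg.Agent.SporadicA.MathieuRecog (mem_M23_iff)
open Cfsg.Agent.Schreier.SylMTwentyTwo (T_le)

theorem smul_conj_iff (g x : M24) (p q : GolayPt) (h : g • p = q) :
    ((g * x * g⁻¹ : M24) : Equiv.Perm GolayPt) q = q ↔ x • p = p := by
  have h1 : ((g * x * g⁻¹ : M24) : Equiv.Perm GolayPt) q = (g * x * g⁻¹) • q := rfl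
  rw [h1, ← h, mul_smul, mul_smul, inv_smul_smul]
  constructor
  · exact fun h2 => MulAction.injective g h2
  · exact fun h2 => by rw [h2]

theorem rowB_M23 : RowB 2 Spor.M23 := by
  have hK : Btw (MulAction.stabilizer M24 (pt 6)) :=
    ⟨fun g h _ => MulAction.mem_stabilizer_iff.2 h, fun g h => MulAction.mem_stabilizer_iff.1 h⟩
  refine row_of hK (equivOf g0 M23_le_M24 fun x => ?_) (conj_trans fun y => one_class T_le23 idx23 M22_le_M23 y)
  rw [mem_M23_iff, MulAction.mem_stabilizer_iff, smul_conj_iff g0 x _ _ g0_six]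
  exact ⟨fun h => ⟨(g0 * x * g0⁻¹).2, h⟩, fun h => h.2⟩

theorem rowB_M22 : RowB 2 Spor.M22 := by
  have hK : Btw (MulAction.stabilizer M24 (pt 6) ⊓ MulAction.stabilizer M24 (pt 15)) :=
    ⟨fun g h h' => ⟨MulAction.mem_stabilizer_iff.2 h, MulAction.mem_stabilizer_iff.2 h'⟩,
      fun g h => MulAction.mem_stabilizer_iff.1 h.1⟩
  refine row_of hK (equivOf g0 M22_le_M24 fun x => ?_) (conj_trans fun y => one_class T_le idx22 le_rfl y)
  rw [mem_M22_iff, mem_inf, MulAction.mem_stabilizer_iff, MulAction.mem_stabilizer_iff, smul_conj_iff g0 x _ _ g0_six,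
    smul_conj_iff g0 x _ _ g0_fifteen]
  exact ⟨fun h => ⟨(g0 * x * g0⁻¹).2, h⟩, fun h => h.2⟩

theorem rowB_m23 {K : Type*} [Group K] [Finite K] (h : Spor.IsoM23 K) : RowB 2 K := by
  have := Fact.mk Nat.prime_two
  have := finite23
  obtain ⟨e⟩ := h
  exact rowB_M23.congr e.symm

theorem rowB_m22 {K : Type*} [Group K] [Finite K] (h : Spor.IsoM22 K) : RowB 2 K := by
  have := Fact.mk Nat.prime_two
  have := finite22
  obtain ⟨e⟩ := h
  exact rowB_M22.congr e.symm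

end Cfsg.Agent.H17.PU.MathieuSmall
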